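import Groth.Agent.S17901
import Mathlib.RingTheory.Flat.FaithfullyFlat.Algebra
import Mathlib.Algebra.Category.Ring.Constructions
import Mathlib.AlgebraicGeometry.Morphisms.Flat

/-!
# Base change of a pinched ring injects into the base change of the ring being pinched
-/

set_option autoImplicit false
set_option backward.isDefEq.respectTransparency false
set_option linter.style.haveILetI false
set_option maxHeartbeats 800000

universe u

open CategoryTheory TensorProduct

namespace Groth.Agent.PinchBC5

/-- A faithfully flat extension stays injective after any base change of a common subring. -/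
theorem lTensor_injective_of_faithfullyFlat (R B A R' : Type u) [CommRing R] [CommRing B] [CommRing A]
    [CommRing R'] [Algebra R B] [Algebra R A] [Algebra B A] [IsScalarTower R B A] [Algebra R R']
    [Module.FaithfullyFlat B A] :
    Function.Injective (LinearMap.lTensor R' (IsScalarTower.toAlgHom R B A).toLinearMap) := by
  rw [LinearMap.lTensor_inj_iff_rTensor_inj]
  have h1 : Function.Injective (TensorProduct.mk B A (B ⊗[R] R') 1) :=
    Module.FaithfullyFlat.tensorProduct_mk_injective (B ⊗[R] R')
  let e := AlgebraTensorModule.cancelBaseChange R B B A R'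
  have h2 : ⇑(LinearMap.rTensor R' (IsScalarTower.toAlgHom R B A).toLinearMap) =
      e ∘ TensorProduct.mk B A (B ⊗[R] R') 1 := by
    funext z
    induction z using TensorProduct.induction_on with
    | zero => simp
    | add x y hx hy => simp only [map_add, Function.comp_apply, hx, hy] at *
    | tmul b r =>
      show algebraMap B A b ⊗ₜ r = e ((1 : A) ⊗ₜ (b ⊗ₜ r))
      rw [AlgebraTensorModule.cancelBaseChange_tmul, Algebra.smul_def, mul_one]
  rw [h2]
  exact e.injective.comp h1

/-- Ring form: a fibre square `B' = A' ×_A B` of flat algebras with `B ⟶ A` faithfully flat gives an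
injection `B' ⟶ A'` after every base change. -/
theorem injective_of_square {R R' B' A' B A P' P : CommRingCat.{u}} (r : R ⟶ B') (w : R ⟶ R')
    (p : B' ⟶ A') (s : B' ⟶ B) (a : A' ⟶ A) (b : B ⟶ A) (hc : p ≫ a = s ≫ b)
    (ha : Function.Surjective a)
    (hu : ∀ (y : B) (x : A'), b y = a x → ∃! z : B', s z = y ∧ p z = x)
    (h1 : (r ≫ s).hom.Flat) (h2 : (r ≫ p).hom.Flat) (h3 : (r ≫ s ≫ b).hom.Flat) (hb : b.hom.FaithfullyFlat)
    {inl' : B' ⟶ P'} {inr' : R' ⟶ P'} (hP' : IsPushout r w inl' inr')
    {inl : A' ⟶ P} {inr : R' ⟶ P} (hP : IsPushout (r ≫ p) w inl inr)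
    (m : P' ⟶ P) (hl : inl' ≫ m = p ≫ inl) (hr : inr' ≫ m = inr) : Function.Injective m := by
  algebraize [r.hom, w.hom, p.hom, s.hom, a.hom, b.hom, (r ≫ p).hom, (r ≫ s).hom, (s ≫ b).hom, (r ≫ s ≫ b).hom]
  haveI : IsScalarTower R B' A' := .of_algebraMap_eq' rfl
  haveI : IsScalarTower R B' B := .of_algebraMap_eq' rfl
  haveI : IsScalarTower B' B A := .of_algebraMap_eq' rfl
  haveI : IsScalarTower B' A' A := .of_algebraMap_eq' (congrArg CommRingCat.Hom.hom hc).symm
  haveI : IsScalarTower R B' A := .of_algebraMap_eq' rfl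
  haveI : IsScalarTower R B A := .of_algebraMap_eq' rfl
  haveI : IsScalarTower R A' A := .of_algebraMap_eq'
    (congrArg CommRingCat.Hom.hom (congrArg (r ≫ ·) hc)).symm
  let eP' := hP'.flip.isoIsPushout _ _ (CommRingCat.isPushout_tensorProduct R R' B')
  let eP := hP.flip.isoIsPushout _ _ (CommRingCat.isPushout_tensorProduct R R' A')
  let M : R' ⊗[R] B' →ₐ[R] R' ⊗[R] A' :=
    Algebra.TensorProduct.map (AlgHom.id R R') (IsScalarTower.toAlgHom R B' A')
  have hm : m ≫ eP.hom = eP'.hom ≫ CommRingCat.ofHom M.toRingHom := by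
    apply hP'.flip.hom_ext
    · rw [reassoc_of% hr, IsPushout.inl_isoIsPushout_hom, IsPushout.inl_isoIsPushout_hom_assoc]
      ext x
      show x ⊗ₜ[R] (1 : A') = M (x ⊗ₜ 1)
      simp [M]
    · rw [reassoc_of% hl, IsPushout.inr_isoIsPushout_hom, IsPushout.inr_isoIsPushout_hom_assoc]
      ext x
      show (1 : R') ⊗ₜ[R] (p x) = M (1 ⊗ₜ x)
      simp [M]
      rfl
  have hM : Function.Injective M := by
    obtain ⟨-, huniq⟩ := Groth.Agent.S17901.result R B' B A' A ⟨ha, hu⟩ R'
    rw [injective_iff_map_eq_zero]
    intro z hz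
    let yb := Algebra.TensorProduct.map (AlgHom.id R R') (IsScalarTower.toAlgHom R B' B) z
    have hcomm : ∀ z : R' ⊗[R] B',
        Algebra.TensorProduct.map (AlgHom.id R R') (IsScalarTower.toAlgHom R B A)
          (Algebra.TensorProduct.map (AlgHom.id R R') (IsScalarTower.toAlgHom R B' B) z) =
        Algebra.TensorProduct.map (AlgHom.id R R') (IsScalarTower.toAlgHom R A' A) (M z) := by
      intro z
      induction z using TensorProduct.induction_on with
      | zero => simp
      | add x y hx hy => simp only [map_add, hx, hy]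
      | tmul x y =>
        simp only [M, Algebra.TensorProduct.map_tmul, AlgHom.id_apply, IsScalarTower.coe_toAlgHom']
        rw [← IsScalarTower.algebraMap_apply B' B A, ← IsScalarTower.algebraMap_apply B' A' A]
    have hy : yb = 0 := by
      refine lTensor_injective_of_faithfullyFlat R B A R' ?_
      rw [map_zero]
      have := hcomm z
      rw [hz, map_zero] at this
      exact this
    obtain ⟨z₀, -, hz₀⟩ := huniq yb (M z) (hcomm z)
    exact (hz₀ z ⟨rfl, rfl⟩).trans (hz₀ 0 ⟨by rw [map_zero, hy], by rw [map_zero, hz]⟩).symm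
  intro x y hxy
  apply (ConcreteCategory.bijective_of_isIso eP'.hom).1
  apply hM
  have hx := congr($hm x)
  have hy := congr($hm y)
  simp only [CommRingCat.comp_apply] at hx hy
  exact hx.symm.trans ((congrArg eP.hom hxy).trans hy)

end Groth.Agent.PinchBC5
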