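import Groth.Agent.Lib.PinchBC5.Inj
import Groth.Agent.Lib.PinchH7.Sections
import Mathlib.AlgebraicGeometry.Morphisms.SchemeTheoreticallyDominant
import Mathlib.AlgebraicGeometry.Morphisms.Finite
import Mathlib.AlgebraicGeometry.IdealSheaf.Functorial

/-!
# The pinching map is universally schematically dominant
-/

set_option autoImplicit false
set_option backward.isDefEq.respectTransparency false
set_option linter.style.haveILetI false
set_option maxHeartbeats 800000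

universe u

open CategoryTheory CategoryTheory.Limits AlgebraicGeometry

namespace Groth.Agent.PinchBC5

variable {S X Z Z' X' : Scheme.{u}}
  (fX : X ⟶ S) (fZ' : Z' ⟶ S) (fX' : X' ⟶ S) (ι : Z ⟶ X) (q : Z ⟶ Z') (π : X ⟶ X') (ι' : Z' ⟶ X')

/-- After any base change the pinching map is schematically dominant. -/
theorem isSchemeTheoreticallyDominant_baseChange
    [IsClosedImmersion ι] [IsClosedImmersion ι'] [IsFinite q] [Flat q] [Surjective q] [IsAffineHom π]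
    (hq : q ≫ fZ' = ι ≫ fX) (hπ : π ≫ fX' = fX) (hι' : ι' ≫ fX' = fZ')
    (hpo : IsPushout ((Scheme.forgetToLocallyRingedSpace ⋙ LocallyRingedSpace.forgetToSheafedSpace).map ι) ((Scheme.forgetToLocallyRingedSpace ⋙ LocallyRingedSpace.forgetToSheafedSpace).map q)
      ((Scheme.forgetToLocallyRingedSpace ⋙ LocallyRingedSpace.forgetToSheafedSpace).map π) ((Scheme.forgetToLocallyRingedSpace ⋙ LocallyRingedSpace.forgetToSheafedSpace).map ι'))
    [Flat fX] [Flat (ι ≫ fX)] [Flat fZ'] {T P P' : Scheme.{u}} (g : T ⟶ S)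
    {a : P ⟶ X} {b : P ⟶ T} (hP : IsPullback a b fX g)
    {a' : P' ⟶ X'} {b' : P' ⟶ T} (hP' : IsPullback a' b' fX' g)
    (pT : P ⟶ P') (ha : pT ≫ a' = a ≫ π) (hb : pT ≫ b' = b) :
    IsAffineHom pT ∧ IsSchemeTheoreticallyDominant pT := by
  have hw : ι ≫ π = q ≫ ι' := by
    apply Scheme.forgetToLocallyRingedSpace.map_injective
    apply LocallyRingedSpace.forgetToSheafedSpace.map_injective
    simpa only [Functor.map_comp, Functor.comp_map] using hpo.w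
  have hsq : IsPullback a pT π a' := by
    refine IsPullback.of_bot ?_ ha.symm hP'
    rw [hπ, hb]
    exact hP
  haveI : IsAffineHom pT := MorphismProperty.of_isPullback (P := @IsAffineHom) hsq inferInstance
  refine ⟨inferInstance, (isSchemeTheoreticallyDominant_iff _).2 ?_⟩
  let C : Type u := {UVW : T.affineOpens × X'.affineOpens × S.affineOpens //
    UVW.1.1 ≤ g ⁻¹ᵁ UVW.2.2.1 ∧ UVW.2.1.1 ≤ fX' ⁻¹ᵁ UVW.2.2.1}
  have haff : ∀ c : C, IsAffineOpen (a' ⁻¹ᵁ c.1.2.1.1 ⊓ b' ⁻¹ᵁ c.1.1.1) := fun c => by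
    have : IsAffine _ := c.1.2.1.2
    have : IsAffine _ := c.1.1.2
    have : IsAffine _ := c.1.2.2.2
    show IsAffine _
    exact IsAffine.of_isIso
      (Scheme.Hom.isPullback_resLE hP' c.2.1 c.2.2 (UY := a' ⁻¹ᵁ c.1.2.1.1 ⊓ b' ⁻¹ᵁ c.1.1.1) rfl).isoPullback.hom
  refine Scheme.IdealSheafData.ext_of_iSup_eq_top (fun c => ⟨_, haff c⟩) ?_ fun c => ?_
  · rw [eq_top_iff]
    rintro z -
    obtain ⟨_, ⟨W, hW, rfl⟩, hzW, -⟩ := S.isBasis_affineOpens.exists_subset_of_mem_open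
      (Set.mem_univ (fX' (a' z))) isOpen_univ
    obtain ⟨_, ⟨V, hV, rfl⟩, hzV, hVW⟩ := X'.isBasis_affineOpens.exists_subset_of_mem_open
      (show a' z ∈ fX' ⁻¹ᵁ W from hzW) (fX' ⁻¹ᵁ W).isOpen
    have hzW' : g (b' z) ∈ W := by
      rw [← Scheme.Hom.comp_apply, ← hP'.w, Scheme.Hom.comp_apply]
      exact hzW
    obtain ⟨_, ⟨U, hU, rfl⟩, hzU, hUW⟩ := T.isBasis_affineOpens.exists_subset_of_mem_open
      (show b' z ∈ g ⁻¹ᵁ W from hzW') (g ⁻¹ᵁ W).isOpen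
    exact TopologicalSpace.Opens.mem_iSup.2 ⟨⟨(⟨U, hU⟩, ⟨V, hV⟩, ⟨W, hW⟩), hUW, hVW⟩, hzV, hzU⟩
  · obtain ⟨⟨⟨U, hU⟩, ⟨V, hV⟩, ⟨W, hW⟩⟩, hUW, hVW⟩ := c
    dsimp only at hUW hVW ⊢
    rw [Scheme.Hom.ker_apply, Scheme.IdealSheafData.ideal_bot, Pi.bot_apply,
      ← RingHom.injective_iff_ker_eq_bot]
    set O := a' ⁻¹ᵁ V ⊓ b' ⁻¹ᵁ U with hO
    have hA : IsAffineOpen (π ⁻¹ᵁ V) := hV.preimage π
    have hB : IsAffineOpen (ι' ⁻¹ᵁ V) := hV.preimage ι'
    have hZ : IsAffineOpen (ι ⁻¹ᵁ π ⁻¹ᵁ V) := hA.preimage ι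
    have e1 : π ⁻¹ᵁ V ≤ fX ⁻¹ᵁ W := by rw [← hπ]; exact fun x hx => hVW hx
    have e2 : ι' ⁻¹ᵁ V ≤ fZ' ⁻¹ᵁ W := by rw [← hι']; exact fun x hx => hVW hx
    have e3 : ι ⁻¹ᵁ π ⁻¹ᵁ V ≤ (ι ≫ fX) ⁻¹ᵁ W := fun x hx => e1 hx
    have he : ι ⁻¹ᵁ π ⁻¹ᵁ V = q ⁻¹ᵁ ι' ⁻¹ᵁ V := by
      rw [← Scheme.Hom.comp_preimage, ← Scheme.Hom.comp_preimage, hw]
    have hpO : pT ⁻¹ᵁ O = a ⁻¹ᵁ (π ⁻¹ᵁ V) ⊓ b ⁻¹ᵁ U := by
      rw [hO, Scheme.Hom.preimage_inf, ← Scheme.Hom.comp_preimage, ← Scheme.Hom.comp_preimage, ha, hb,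
        Scheme.Hom.comp_preimage]
    have sq' := (isIso_pushoutSection_iff hP' hUW hVW hO).1
      (isIso_pushoutSection_of_isAffineOpen hP' hUW hVW hO hW hU hV)
    have sq := (isIso_pushoutSection_iff hP hUW e1 hpO).1
      (isIso_pushoutSection_of_isAffineOpen hP hUW e1 hpO hW hU hA)
    refine injective_of_square (fX'.appLE W V hVW) (g.appLE W U hUW) (π.app V) (ι'.app V)
      (ι.app (π ⁻¹ᵁ V)) (q.app _ ≫ Z.presheaf.map (eqToHom he).op) ?_ (ι.app_surjective _ hA) ?_ ?_ ?_ ?_ ?_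
      sq' (inl := a.appLE (π ⁻¹ᵁ V) (pT ⁻¹ᵁ O) (hpO.le.trans inf_le_left))
      (inr := b.appLE U (pT ⁻¹ᵁ O) (hpO.le.trans inf_le_right)) ?_ (pT.app O) ?_ ?_
    · rw [← Category.assoc, ← Scheme.Hom.comp_app, ← Scheme.Hom.comp_app]
      exact Scheme.Hom.congr_app hw V
    · intro y x h
      obtain ⟨t, ⟨t1, t2⟩, t3⟩ := Groth.Agent.PinchH7.existsUnique_section_scheme hpo hw V x y h.symm
      exact ⟨t, ⟨t2, t1⟩, fun t' ht => t3 t' ⟨ht.2, ht.1⟩⟩
    · rw [Scheme.Hom.app_eq_appLE, Scheme.Hom.appLE_comp_appLE]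
      simpa only [hι'] using Flat.flat_appLE fZ' hW hB e2
    · rw [Scheme.Hom.app_eq_appLE, Scheme.Hom.appLE_comp_appLE]
      simpa only [hπ] using Flat.flat_appLE fX hW hA e1
    · simp only [Scheme.Hom.app_eq_appLE, Scheme.Hom.appLE_map, Scheme.Hom.appLE_comp_appLE]
      have h : q ≫ ι' ≫ fX' = ι ≫ fX := by rw [hι', hq]
      simpa only [Category.assoc, h] using Flat.flat_appLE (ι ≫ fX) hW hZ e3
    · -- `q` is faithfully flat over affine opens
      haveI : IsAffine (ι' ⁻¹ᵁ V : Scheme.{u}) := hB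
      haveI : IsAffine (q ⁻¹ᵁ ι' ⁻¹ᵁ V : Scheme.{u}) := hB.preimage q
      have hflat : (q.app (ι' ⁻¹ᵁ V)).hom.Flat := by
        rw [Scheme.Hom.app_eq_appLE]
        exact Flat.flat_appLE q hB (hB.preimage q) le_rfl
      have hff : (q ∣_ (ι' ⁻¹ᵁ V)).appTop.hom.FaithfullyFlat :=
        (Flat.flat_and_surjective_iff_faithfullyFlat_of_isAffine _).1 ⟨inferInstance, IsZariskiLocalAtTarget.restrict ‹Surjective q› _⟩
      have hiso : Function.Bijective (Z.presheaf.map (eqToHom he).op) :=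
        ConcreteCategory.bijective_of_isIso _
      refine RingHom.FaithfullyFlat.stableUnderComposition _ _ ?_
        (RingHom.FaithfullyFlat.of_bijective hiso)
      have happ : q.app (ι' ⁻¹ᵁ V) = (ι' ⁻¹ᵁ V).topIso.inv ≫ (q ∣_ (ι' ⁻¹ᵁ V)).appTop ≫
          (q ⁻¹ᵁ ι' ⁻¹ᵁ V).topIso.hom := by
        simp [Scheme.Hom.appTop, Scheme.Hom.app_eq_appLE]
      rw [happ]
      exact RingHom.FaithfullyFlat.stableUnderComposition _ _
        (RingHom.FaithfullyFlat.of_bijective (ConcreteCategory.bijective_of_isIso (ι' ⁻¹ᵁ V).topIso.inv))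
        (RingHom.FaithfullyFlat.stableUnderComposition _ _ hff
          (RingHom.FaithfullyFlat.of_bijective (ConcreteCategory.bijective_of_isIso (q ⁻¹ᵁ ι' ⁻¹ᵁ V).topIso.hom)))
    · simpa only [Scheme.Hom.app_eq_appLE, Scheme.Hom.appLE_comp_appLE, hπ] using sq
    · rw [Scheme.Hom.app_eq_appLE, Scheme.Hom.appLE_comp_appLE, Scheme.Hom.app_eq_appLE,
        Scheme.Hom.appLE_comp_appLE]
      simp only [ha]
    · rw [Scheme.Hom.app_eq_appLE, Scheme.Hom.appLE_comp_appLE]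
      simp only [hb]

/-- Pinching preserves `O_T = f_* O` universally. -/
theorem isIso_app_of_pinching
    [IsClosedImmersion ι] [IsClosedImmersion ι'] [IsFinite q] [Flat q] [Surjective q] [IsAffineHom π]
    (hq : q ≫ fZ' = ι ≫ fX) (hπ : π ≫ fX' = fX) (hι' : ι' ≫ fX' = fZ')
    (hpo : IsPushout ((Scheme.forgetToLocallyRingedSpace ⋙ LocallyRingedSpace.forgetToSheafedSpace).map ι) ((Scheme.forgetToLocallyRingedSpace ⋙ LocallyRingedSpace.forgetToSheafedSpace).map q)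
      ((Scheme.forgetToLocallyRingedSpace ⋙ LocallyRingedSpace.forgetToSheafedSpace).map π) ((Scheme.forgetToLocallyRingedSpace ⋙ LocallyRingedSpace.forgetToSheafedSpace).map ι'))
    [Flat fX] [Flat (ι ≫ fX)] [Flat fZ'] {T : Scheme.{u}} (g : T ⟶ S)
    (hX : ∀ U : T.Opens, IsIso ((pullback.snd fX g).app U)) (U : T.Opens) :
    IsIso ((pullback.snd fX' g).app U) := by
  let pT : pullback fX g ⟶ pullback fX' g :=
    pullback.lift (pullback.fst fX g ≫ π) (pullback.snd fX g)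
      (by rw [Category.assoc, hπ]; exact pullback.condition)
  obtain ⟨_, _⟩ := isSchemeTheoreticallyDominant_baseChange fX fZ' fX' ι q π ι' hq hπ hι' hpo g
    (IsPullback.of_hasPullback fX g) (IsPullback.of_hasPullback fX' g) pT (pullback.lift_fst _ _ _)
    (pullback.lift_snd _ _ _)
  haveI := hX U
  have hsnd : pT ≫ pullback.snd fX' g = pullback.snd fX g := pullback.lift_snd _ _ _
  have hcomp : (pullback.snd fX' g).app U ≫ pT.app (pullback.snd fX' g ⁻¹ᵁ U) =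
      (pT ≫ pullback.snd fX' g).app U := (Scheme.Hom.comp_app _ _ U).symm
  haveI : IsIso ((pT ≫ pullback.snd fX' g).app U) := by
    rw [Scheme.Hom.congr_app hsnd U]
    infer_instance
  rw [ConcreteCategory.isIso_iff_bijective]
  have hb := ConcreteCategory.bijective_of_isIso ((pT ≫ pullback.snd fX' g).app U)
  have hinj := pT.app_injective (pullback.snd fX' g ⁻¹ᵁ U)
  rw [← hcomp] at hb
  refine ⟨fun x y h => hb.1 (congrArg (pT.app _) h), fun y => ?_⟩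
  obtain ⟨x, hx⟩ := hb.2 (pT.app _ y)
  exact ⟨x, hinj hx⟩

end Groth.Agent.PinchBC5
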